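import Cfsg.Agent.Rud.Mult.Defs

/-! Generated: checks, part 0. -/

set_option autoImplicit false
set_option Elab.async false
set_option maxRecDepth 100000

namespace Cfsg.Agent.Rud.Mult

open Cfsg.Agent.CosetCert

theorem gen_at0 : allFrom genB 0 1700 = true := by decide +kernel

theorem gen_at1700 : allFrom genB 1700 1700 = true := by decide +kernel

theorem gen_at3400 : allFrom genB 3400 1700 = true := by decide +kernel

theorem gen_at5100 : allFrom genB 5100 1700 = true := by decide +kernel

theorem gen_at6800 : allFrom genB 6800 1700 = true := by decide +kernel

theorem gen_at8500 : allFrom genB 8500 1700 = true := by decide +kernel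

theorem gen_at10200 : allFrom genB 10200 1700 = true := by decide +kernel

theorem gen_at11900 : allFrom genB 11900 1700 = true := by decide +kernel

theorem gen_at13600 : allFrom genB 13600 1700 = true := by decide +kernel

theorem gen_at15300 : allFrom genB 15300 940 = true := by decide +kernel


end Cfsg.Agent.Rud.Mult
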