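import Cfsg.Agent.Rud.Mult.Defs

/-! Generated: checks, part 1. -/

set_option autoImplicit false
set_option Elab.async false
set_option maxRecDepth 100000

namespace Cfsg.Agent.Rud.Mult

open Cfsg.Agent.CosetCert

theorem back_at0 : allFrom backB 0 1400 = true := by decide +kernel

theorem back_at1400 : allFrom backB 1400 1400 = true := by decide +kernel

theorem back_at2800 : allFrom backB 2800 1260 = true := by decide +kernel

theorem tits_at0 : allFrom titsB 0 600 = true := by decide +kernel

theorem tits_at600 : allFrom titsB 600 600 = true := by decide +kernel

theorem tits_at1200 : allFrom titsB 1200 555 = true := by decide +kernel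

theorem top_at : span.topB cert = true := by decide +kernel

theorem rels_ok : cert.rels.all relB = true := by decide +kernel

theorem cover_ok : coverB = true := by decide +kernel


end Cfsg.Agent.Rud.Mult
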