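import Cfsg.Agent.Rud.Mult.Defs

/-! Generated: checks, part 2. -/

set_option autoImplicit false
set_option Elab.async false
set_option maxRecDepth 100000

namespace Cfsg.Agent.Rud.Mult

open Cfsg.Agent.CosetCert

theorem var_at0 : allFrom cert.varB 0 2100 = true := by decide +kernel

theorem var_at2100 : allFrom cert.varB 2100 2100 = true := by decide +kernel

theorem var_at4200 : allFrom cert.varB 4200 2100 = true := by decide +kernel

theorem var_at6300 : allFrom cert.varB 6300 2100 = true := by decide +kernel

theorem var_at8400 : allFrom cert.varB 8400 2100 = true := by decide +kernel

theorem var_at10500 : allFrom cert.varB 10500 2100 = true := by decide +kernel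

theorem var_at12600 : allFrom cert.varB 12600 2100 = true := by decide +kernel

theorem var_at14700 : allFrom cert.varB 14700 1540 = true := by decide +kernel


end Cfsg.Agent.Rud.Mult
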