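import Cfsg.Agent.Rud.Mult.Defs

/-! Generated: checks, part 3. -/

set_option autoImplicit false
set_option Elab.async false
set_option maxRecDepth 100000

namespace Cfsg.Agent.Rud.Mult

open Cfsg.Agent.CosetCert

theorem field_at0 : allFrom (span.fieldB cert) 0 4 = true := by decide +kernel

theorem field_at12 : allFrom (span.fieldB cert) 12 4 = true := by decide +kernel

theorem field_at24 : allFrom (span.fieldB cert) 24 4 = true := by decide +kernel

theorem field_at36 : allFrom (span.fieldB cert) 36 4 = true := by decide +kernel

theorem field_at48 : allFrom (span.fieldB cert) 48 4 = true := by decide +kernel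

theorem field_at60 : allFrom (span.fieldB cert) 60 4 = true := by decide +kernel

theorem field_at72 : allFrom (span.fieldB cert) 72 4 = true := by decide +kernel

theorem field_at84 : allFrom (span.fieldB cert) 84 4 = true := by decide +kernel

theorem field_at96 : allFrom (span.fieldB cert) 96 4 = true := by decide +kernel

theorem field_at108 : allFrom (span.fieldB cert) 108 1 = true := by decide +kernel

end Cfsg.Agent.Rud.Mult
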