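import Cfsg.Agent.Rud.Mult.Defs

/-! Generated: checks, part 4. -/

set_option autoImplicit false
set_option Elab.async false
set_option maxRecDepth 100000

namespace Cfsg.Agent.Rud.Mult

open Cfsg.Agent.CosetCert

theorem field_at4 : allFrom (span.fieldB cert) 4 4 = true := by decide +kernel

theorem field_at16 : allFrom (span.fieldB cert) 16 4 = true := by decide +kernel

theorem field_at28 : allFrom (span.fieldB cert) 28 4 = true := by decide +kernel

theorem field_at40 : allFrom (span.fieldB cert) 40 4 = true := by decide +kernel

theorem field_at52 : allFrom (span.fieldB cert) 52 4 = true := by decide +kernel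

theorem field_at64 : allFrom (span.fieldB cert) 64 4 = true := by decide +kernel

theorem field_at76 : allFrom (span.fieldB cert) 76 4 = true := by decide +kernel

theorem field_at88 : allFrom (span.fieldB cert) 88 4 = true := by decide +kernel

theorem field_at100 : allFrom (span.fieldB cert) 100 4 = true := by decide +kernel

end Cfsg.Agent.Rud.Mult
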