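import Cfsg.Agent.Rud.Mult.Defs

/-! Generated: checks, part 5. -/

set_option autoImplicit false
set_option Elab.async false
set_option maxRecDepth 100000

namespace Cfsg.Agent.Rud.Mult

open Cfsg.Agent.CosetCert

theorem field_at8 : allFrom (span.fieldB cert) 8 4 = true := by decide +kernel

theorem field_at20 : allFrom (span.fieldB cert) 20 4 = true := by decide +kernel

theorem field_at32 : allFrom (span.fieldB cert) 32 4 = true := by decide +kernel

theorem field_at44 : allFrom (span.fieldB cert) 44 4 = true := by decide +kernel

theorem field_at56 : allFrom (span.fieldB cert) 56 4 = true := by decide +kernel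

theorem field_at68 : allFrom (span.fieldB cert) 68 4 = true := by decide +kernel

theorem field_at80 : allFrom (span.fieldB cert) 80 4 = true := by decide +kernel

theorem field_at92 : allFrom (span.fieldB cert) 92 4 = true := by decide +kernel

theorem field_at104 : allFrom (span.fieldB cert) 104 4 = true := by decide +kernel

end Cfsg.Agent.Rud.Mult
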