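import Cfsg.Agent.Rud.Mult.Check0
import Cfsg.Agent.Rud.Mult.Check1
import Cfsg.Agent.Rud.Mult.Check2
import Cfsg.Agent.Rud.Mult.Check3
import Cfsg.Agent.Rud.Mult.Check4
import Cfsg.Agent.Rud.Mult.Check5

/-! Generated: kernel checks combined. -/

set_option autoImplicit false
set_option Elab.async false
set_option maxRecDepth 100000

namespace Cfsg.Agent.Rud.Mult

open Cfsg.Agent.CosetCert

theorem lt_step {p : ℕ → Bool} {a b n : ℕ} (h : ∀ i, i < a → p i = true)
    (hc : Cfsg.Agent.Rud.allFrom p a n = true) (hb : b = a + n) : ∀ i, i < b → p i = true := fun i hi => by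
  rcases Nat.lt_or_ge i a with h' | h'
  · exact h i h'
  · exact Cfsg.Agent.Rud.allFrom_spec hc h' (by omega)

theorem gen_ok : ∀ i, i < 16240 → genB i = true := by
  have h0 : ∀ i, i < 0 → genB i = true := forall_lt_zero
  have h1 := lt_step (b := 1700) h0 gen_at0 rfl
  have h2 := lt_step (b := 3400) h1 gen_at1700 rfl
  have h3 := lt_step (b := 5100) h2 gen_at3400 rfl
  have h4 := lt_step (b := 6800) h3 gen_at5100 rfl
  have h5 := lt_step (b := 8500) h4 gen_at6800 rfl
  have h6 := lt_step (b := 10200) h5 gen_at8500 rfl
  have h7 := lt_step (b := 11900) h6 gen_at10200 rfl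
  have h8 := lt_step (b := 13600) h7 gen_at11900 rfl
  have h9 := lt_step (b := 15300) h8 gen_at13600 rfl
  have h10 := lt_step (b := 16240) h9 gen_at15300 rfl
  exact h10

theorem back_ok : ∀ i, i < 4060 → backB i = true := by
  have h0 : ∀ i, i < 0 → backB i = true := forall_lt_zero
  have h1 := lt_step (b := 1400) h0 back_at0 rfl
  have h2 := lt_step (b := 2800) h1 back_at1400 rfl
  have h3 := lt_step (b := 4060) h2 back_at2800 rfl
  exact h3

theorem var_ok : ∀ i, i < 16240 → cert.varB i = true := by
  have h0 : ∀ i, i < 0 → cert.varB i = true := forall_lt_zero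
  have h1 := lt_step (b := 2100) h0 var_at0 rfl
  have h2 := lt_step (b := 4200) h1 var_at2100 rfl
  have h3 := lt_step (b := 6300) h2 var_at4200 rfl
  have h4 := lt_step (b := 8400) h3 var_at6300 rfl
  have h5 := lt_step (b := 10500) h4 var_at8400 rfl
  have h6 := lt_step (b := 12600) h5 var_at10500 rfl
  have h7 := lt_step (b := 14700) h6 var_at12600 rfl
  have h8 := lt_step (b := 16240) h7 var_at14700 rfl
  exact h8

theorem tits_ok : ∀ i, i < 1755 → titsB i = true := by
  have h0 : ∀ i, i < 0 → titsB i = true := forall_lt_zero
  have h1 := lt_step (b := 600) h0 tits_at0 rfl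
  have h2 := lt_step (b := 1200) h1 tits_at600 rfl
  have h3 := lt_step (b := 1755) h2 tits_at1200 rfl
  exact h3

theorem field_ok : ∀ i, i < 109 → span.fieldB cert i = true := by
  have h0 : ∀ i, i < 0 → span.fieldB cert i = true := forall_lt_zero
  have h1 := lt_step (b := 4) h0 field_at0 rfl
  have h2 := lt_step (b := 8) h1 field_at4 rfl
  have h3 := lt_step (b := 12) h2 field_at8 rfl
  have h4 := lt_step (b := 16) h3 field_at12 rfl
  have h5 := lt_step (b := 20) h4 field_at16 rfl
  have h6 := lt_step (b := 24) h5 field_at20 rfl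
  have h7 := lt_step (b := 28) h6 field_at24 rfl
  have h8 := lt_step (b := 32) h7 field_at28 rfl
  have h9 := lt_step (b := 36) h8 field_at32 rfl
  have h10 := lt_step (b := 40) h9 field_at36 rfl
  have h11 := lt_step (b := 44) h10 field_at40 rfl
  have h12 := lt_step (b := 48) h11 field_at44 rfl
  have h13 := lt_step (b := 52) h12 field_at48 rfl
  have h14 := lt_step (b := 56) h13 field_at52 rfl
  have h15 := lt_step (b := 60) h14 field_at56 rfl
  have h16 := lt_step (b := 64) h15 field_at60 rfl
  have h17 := lt_step (b := 68) h16 field_at64 rfl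
  have h18 := lt_step (b := 72) h17 field_at68 rfl
  have h19 := lt_step (b := 76) h18 field_at72 rfl
  have h20 := lt_step (b := 80) h19 field_at76 rfl
  have h21 := lt_step (b := 84) h20 field_at80 rfl
  have h22 := lt_step (b := 88) h21 field_at84 rfl
  have h23 := lt_step (b := 92) h22 field_at88 rfl
  have h24 := lt_step (b := 96) h23 field_at92 rfl
  have h25 := lt_step (b := 100) h24 field_at96 rfl
  have h26 := lt_step (b := 104) h25 field_at100 rfl
  have h27 := lt_step (b := 108) h26 field_at104 rfl
  have h28 := lt_step (b := 109) h27 field_at108 rfl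
  exact h28

theorem old_nodup : Cfsg.Agent.Leech.Model.noRep 0 ((List.range 4060).map old) = true := by decide +kernel

theorem pim_nodup : Cfsg.Agent.Leech.Model.noRep 0 ((List.range 1755).map pim) = true := by decide +kernel

theorem old_base : baseNum.map old = [0, 2087, 4009, 3278] := by decide +kernel

theorem gen_words : genWords.all (fun w => w.all fun a => Nat.blt a 2) = true ∧
    backWords.all (fun w => w.all fun a => Nat.blt a 4) = true ∧
    titsWords.all (fun w => w.all fun a => Nat.blt a 4) = true := by decide +kernel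

theorem checked : span.Checked cert where
  d_eq := by decide +kernel
  n_pos := by decide +kernel
  K_pos := by decide +kernel
  relsLen := by decide +kernel
  relsLt := by decide +kernel
  free_lt := by decide +kernel
  zero_lt := by decide +kernel
  u_lt := by decide +kernel
  tree := fun c hc => (CosetCert.allFrom_iff cert.treeB 0 4060).1 (by decide +kernel) c (Nat.zero_le c) (by rw [Nat.zero_add]; exact hc)
  var := var_ok
  row := List.all_eq_true.1 (by decide +kernel : cert.rows.all cert.rowB = true)
  field := field_ok
  top := top_at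

end Cfsg.Agent.Rud.Mult
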