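import Cfsg.Agent.Rud.Mult.Data
import Cfsg.Agent.Rud.Mult.TitsData
import Cfsg.Agent.Rud.Stab
import Cfsg.Agent.TwistedF4Two.MultPoints
import Cfsg.Agent.StemCert.Perm

/-! Checks for the multiplier certificate of the group of the lines. -/

set_option autoImplicit false

namespace Cfsg.Agent.Rud.Mult

open Cfsg.Agent.CosetCert (force get48 Store)

/-- A word in the two maps on lines. -/
noncomputable def evG (w : List ℕ) (x : ℕ) : ℕ :=
  List.rec (motive := fun _ => ℕ) x (fun a _ y => limg a y) w

/-- A word in the two maps on vectors. -/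
noncomputable def evM (w : List ℕ) (x : ℕ) : ℕ :=
  List.rec (motive := fun _ => ℕ) x (fun a _ y => gmap a y) w

/-- A word in the generators on vectors. -/
noncomputable def evL (w : List ℕ) (x : ℕ) : ℕ :=
  List.rec (motive := fun _ => ℕ) x (fun a _ y => evM (genWords.getD a []) y) w

/-- A word in the generators on the numbered lines. -/
noncomputable def evT (w : List ℕ) (c : ℕ) : ℕ :=
  List.rec (motive := fun _ => ℕ) c (fun a _ y => tab y a) w

/-- A signed word in the generators on the numbered lines. -/
noncomputable def evS (w : List (ℕ × Bool)) (c : ℕ) : ℕ :=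
  List.rec (motive := fun _ => ℕ) c (fun a _ y => tab y a.1) w

/-- The line with a number. -/
noncomputable abbrev old (c : ℕ) : ℕ := get48 oldStore c

/-- An edge is right. -/
noncomputable def genB (i : ℕ) : Bool :=
  force (tab (i / 4) (i % 4)) fun t => Nat.blt t 4060 && Nat.beq (tab t (i % 4)) (i / 4) &&
    Nat.beq (evG (genWords.getD (i % 4) []) (old (i / 4))) (old t)

/-- The two maps are words in the generators. -/
noncomputable def backB (c : ℕ) : Bool :=
  Nat.blt (old c) 4060 && Nat.beq (old (evT (backWords.getD 0 []) c)) (limg 0 (old c)) &&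
    Nat.beq (old (evT (backWords.getD 1 []) c)) (limg 1 (old c))

/-- The numbers of the base lines. -/
def baseNum : List ℕ := [0, 856, 2806, 2077]

/-- A relator fixes the base. -/
noncomputable def relB (w : List (ℕ × Bool)) : Bool :=
  baseNum.all fun c => Nat.beq (evS w c) c

/-- The word for the cover. -/
def coverWord : List ℕ :=
  (List.replicate 26 [0, 3, 2, 3, 2, 2, 1, 3, 0, 0, 1, 0, 3, 0, 3, 1]).flatten

/-- The vectors of the base. -/
noncomputable def coverB : Bool :=
  baseData.all fun b => Nat.beq (evL coverWord b) (rotI (rotI b)) &&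
    (List.range 4).all fun x => Nat.beq (evL [x, x] b) b

/-- The orbit point with a number. -/
noncomputable abbrev opt (k : ℕ) : ℕ := get 12 treeT.pts k

/-- The image of an orbit point in the numbering of the Tits group. -/
noncomputable abbrev pim (k : ℕ) : ℕ := get48 piStore k

/-- The identification intertwines the generators. -/
noncomputable def titsB (k : ℕ) : Bool :=
  force (get48 sAStore k) fun a => force (get48 sBStore k) fun b =>
    Nat.blt (pim k) 1755 && Nat.blt a 1755 && Nat.blt b 1755 &&
    Nat.beq (letter 8 (opt k)) (opt a) && Nat.beq (letter 9 (opt k)) (opt b) &&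
    Nat.beq (StemCert.appW 11 TwistedF4Two.MultCert.codes (titsWords.getD 0 []) (pim k)) (pim a) &&
    Nat.beq (StemCert.appW 11 TwistedF4Two.MultCert.codes (titsWords.getD 1 []) (pim k)) (pim b)

end Cfsg.Agent.Rud.Mult
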