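import Cfsg.Agent.StemCert.Split
import Cfsg.Agent.ProjExt.Stem

/-!
A subgroup with a perfect subgroup of index two with trivial multiplier: in a stem extension the kernel meets
the derived group of its preimage trivially.
-/

set_option autoImplicit false

namespace Cfsg.Agent.Rud.Mult

open scoped commutatorElement

universe u

theorem ker_meet {G : Type u} [Group G] {S H0 : Subgroup G} (hle : H0 ≤ S)
    (hidx : (H0.subgroupOf S).index = 2) (hperf : commutator H0 = ⊤)
    (hmult : Cfsg.HasCyclicSchurMultiplier H0 1)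
    {Γ : Type u} [Group Γ] [Finite Γ] (σ : Γ →* G) (hσ : Cfsg.IsStemExtension σ)
    (z : Γ) (hz : z ∈ S.comap σ) (hzk : z ∈ σ.ker)
    (hzc : (⟨z, hz⟩ : S.comap σ) ∈ commutator (S.comap σ)) : z = 1 := by
  obtain ⟨ρ, hρ⟩ := StemCert.exists_retraction hperf hmult σ hσ
  obtain ⟨hsurj, hker, -⟩ := hσ
  let f : S.comap σ →* S := (σ.comp (Subgroup.subtype _)).codRestrict _ fun p => p.2
  have hf : Function.Surjective f := fun h => by
    obtain ⟨x, hx⟩ := hsurj h
    exact ⟨⟨x, by rw [Subgroup.mem_comap, hx]; exact h.2⟩, Subtype.ext hx⟩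
  let N : Subgroup (S.comap σ) := (H0.subgroupOf S).comap f
  have hN : N.index = 2 := by rw [Subgroup.index_comap_of_surjective _ hf, hidx]
  have : N.Normal := Subgroup.normal_of_index_eq_two hN
  let ι : N →* H0.comap σ := ((Subgroup.subtype _).comp N.subtype).codRestrict _ fun p => p.2
  let D : Subgroup (S.comap σ) := (commutator N).map N.subtype
  have hDn : D.Normal := inferInstance
  have hsplit : ∀ p ∈ N, ∃ e ∈ D, (e⁻¹ * p) ∈ Subgroup.center (S.comap σ) := by
    intro p hp
    let τ : N →* H0 := ((σ.comp (Subgroup.subtype _)).comp N.subtype).codRestrict _ fun q => q.2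
    have hτ : Function.Surjective τ := fun h => by
      obtain ⟨x, hx⟩ := hsurj h
      exact ⟨⟨⟨x, by rw [Subgroup.mem_comap, hx]; exact hle h.2⟩, by
        show σ x ∈ H0
        rw [hx]; exact h.2⟩, Subtype.ext hx⟩
    have hmap : (commutator N).map τ = ⊤ := by
      rw [commutator_def, Subgroup.map_commutator, Subgroup.map_top_of_surjective _ hτ, ← commutator_def,
        hperf]
    obtain ⟨q, hq, hqp⟩ := Subgroup.mem_map.mp (hmap ▸ Subgroup.mem_top (τ ⟨p, hp⟩))
    refine ⟨q, Subgroup.mem_map_of_mem _ hq, Subgroup.mem_center_iff.mpr fun y => Subtype.ext ?_⟩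
    refine Subgroup.mem_center_iff.mp (hker (MonoidHom.mem_ker.mpr ?_)) y
    have h1 : σ ((q : S.comap σ) : Γ) = σ (p : Γ) := congrArg Subtype.val hqp
    simp [h1]
  have hcomm : commutator (S.comap σ) ≤ D := by
    rw [commutator_def, Subgroup.commutator_le]
    have hN1 : ∀ p ∈ N, ∀ q, ⁅p, q⁆ ∈ D := fun p hp q => by
      obtain ⟨e, he, hc⟩ := hsplit p hp
      have : ⁅p, q⁆ = ⁅e, q⁆ := by
        conv_lhs => rw [show p = e * (e⁻¹ * p) by group, show q = q * 1 by group]
        exact StemCert.commutator_mul_central e q hc (one_mem _)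
      rw [this, commutatorElement_def]
      rw [show e * q * e⁻¹ * q⁻¹ = e * (q * e⁻¹ * q⁻¹) by group]
      exact mul_mem he (hDn.conj_mem _ (inv_mem he) q)
    intro p _ q _
    by_cases hp : p ∈ N
    · exact hN1 p hp q
    by_cases hq : q ∈ N
    · rw [← commutatorElement_inv]
      exact inv_mem (hN1 q hq p)
    have hn : p⁻¹ * q ∈ N := by
      rw [Subgroup.mul_mem_iff_of_index_two hN, inv_mem_iff]
      simp [hp, hq]
    have : ⁅p, q⁆ = p * ⁅p⁻¹ * q, p⁆⁻¹ * p⁻¹ := by
      simp only [commutatorElement_def, mul_inv_rev]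
      group
    rw [this]
    exact hDn.conj_mem _ (inv_mem (hN1 _ hn p)) p
  obtain ⟨m, hm, hmz⟩ := Subgroup.mem_map.mp (hcomm hzc)
  have h1 : ρ (ι m) = 1 := by
    letI : CommGroup σ.ker :=
      { (inferInstance : Group σ.ker) with
        mul_comm := fun a b => Subtype.ext (Subgroup.mem_center_iff.mp (hker b.2) a) }
    exact Abelianization.commutator_subset_ker (ρ.comp ι) hm
  have h2 : ((m : S.comap σ) : Γ) = z := congrArg Subtype.val hmz
  have hzH : z ∈ H0.comap σ := by rw [← h2]; exact m.2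
  have h3 : ι m = ⟨z, hzH⟩ := Subtype.ext h2
  rw [h3, hρ z hzk hzH] at h1
  exact congrArg Subtype.val h1

end Cfsg.Agent.Rud.Mult
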