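import Cfsg.Agent.Rud.Mult.Checked
import Cfsg.Agent.Rud.Simple
import Cfsg.Agent.TwistedF4Two.MultCheck
import Cfsg.Agent.TwistedF4Two.Tits
import Cfsg.Agent.ProjExt.Stem

/-!
The subgroup of index 2 in the stabiliser of a line is the Tits group; its multiplier is trivial.
-/

set_option autoImplicit false

namespace Cfsg.Agent.Rud.Mult

open Cfsg.Agent.CosetCert (force_eq)
open Cfsg.Agent.Leech.Model (noRep_range)
open Cfsg.Agent.TwistedF4Two (D)
open Cfsg.Agent.TwistedF4Two.MultCert (iota gD coded_iota codes codes_ok keys_ok)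

attribute [local irreducible] TwistedF4Two.MultCert.iota

theorem tits_at {k : ℕ} (hk : k < 1755) : pim k < 1755 ∧
    (∃ a, a < 1755 ∧ letter 8 (opt k) = opt a ∧
      StemCert.appW 11 codes (titsWords.getD 0 []) (pim k) = pim a) ∧
    ∃ b, b < 1755 ∧ letter 9 (opt k) = opt b ∧
      StemCert.appW 11 codes (titsWords.getD 1 []) (pim k) = pim b := by
  have h := tits_ok k hk
  simp only [titsB, force_eq, Bool.and_eq_true, Nat.blt_eq, Nat.beq_eq] at h
  exact ⟨h.1.1.1.1.1.1, ⟨_, h.1.1.1.1.1.2, h.1.1.1.2, h.1.2⟩, ⟨_, h.1.1.1.1.2, h.1.1.2, h.2⟩⟩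

/-- The action of the stabiliser on the short suborbit. -/
noncomputable def sigmaHom : ↥S0 →* Equiv.Perm (Fin 1755) :=
  MonoidHom.mk' (fun g => Equiv.ofBijective (sigma g)
    (Finite.injective_iff_bijective.1 (sigma_injective g)))
    fun g h => Equiv.ext fun k => sigma_mul g h k

/-- The renumbering of the short suborbit. -/
noncomputable def pimE : Fin 1755 ≃ Fin 1755 :=
  Equiv.ofBijective (fun k => ⟨pim k, (tits_at k.2).1⟩)
    (Finite.injective_iff_bijective.1 fun a b e =>
      Fin.ext (noRep_range pim_nodup a.2 b.2 (congrArg Fin.val e)))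

theorem pimE_apply (k : Fin 1755) : (pimE k : ℕ) = pim k := rfl

/-- The action on the renumbered suborbit. -/
noncomputable def titsHom : ↥Tgrp →* Equiv.Perm (Fin 1755) :=
  (pimE.permCongrHom).toMonoidHom.comp (sigmaHom.comp (Subgroup.inclusion Tgrp_le_S0))

theorem titsHom_pim (g : ↥Tgrp) (k : Fin 1755) :
    titsHom g (pimE k) = pimE (sigma (Subgroup.inclusion Tgrp_le_S0 g) k) := by
  simp [titsHom, sigmaHom, Equiv.permCongrHom, Equiv.permCongr_apply]

/-- The two generators. -/
noncomputable def tgen (i : ℕ) : ↥Tgrp := ⟨_, wT_mem_Tgrp i⟩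

theorem tgen_coe {i : ℕ} (hi : i < 2) : (tgen i : Equiv.Perm (Fin 4060)) = lp (8 + i) := by
  interval_cases i <;> exact mul_one _

/-- The image of a generator in the Tits group. -/
noncomputable def dgen (i : ℕ) : D := StemCert.evalW gD (titsWords.getD i [])

theorem titsHom_tgen {i : ℕ} (hi : i < 2) : titsHom (tgen i) = iota keys_ok (dgen i) := by
  refine Equiv.ext fun j => ?_
  obtain ⟨k, rfl⟩ := pimE.surjective j
  have hw : ∀ s ∈ titsWords.getD i [], s < 4 := by
    interval_cases i <;> decide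
  have hd : (iota keys_ok (dgen i) (pimE k) : ℕ) =
      StemCert.appW 11 codes (titsWords.getD i []) (pim k) :=
    StemCert.appW_spec (coded_iota keys_ok codes_ok) _ hw _
  obtain ⟨-, hA, hB⟩ := tits_at k.2
  obtain ⟨a, ha, h1, h2⟩ : ∃ a, a < 1755 ∧ letter (8 + i) (opt k) = opt a ∧
      StemCert.appW 11 codes (titsWords.getD i []) (pim k) = pim a := by
    interval_cases i
    · exact hA
    · exact hB
  have hs : sigma (Subgroup.inclusion Tgrp_le_S0 (tgen i)) k = ⟨a, ha⟩ := by
    apply tv_injective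
    apply Fin.ext
    show ((tv (sigma (Subgroup.inclusion Tgrp_le_S0 (tgen i)) k)) pB : ℕ) = _
    rw [sigma_spec, (tv_spec ⟨a, ha⟩).2.1, Subgroup.coe_inclusion, tgen_coe hi,
      lp_apply (by omega), (tv_spec k).2.1]
    exact h1
  refine Fin.ext ?_
  rw [hd, h2, titsHom_pim, hs]
  rfl

theorem tgen_closure : Subgroup.closure {g | ∃ i < 2, tgen i = g} = ⊤ := by
  refine (Subgroup.map_injective Tgrp.subtype_injective) ?_
  rw [MonoidHom.map_closure, ← MonoidHom.range_eq_map, Subgroup.range_subtype]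
  conv_rhs => rw [Tgrp]
  congr 1
  ext x
  constructor
  · rintro ⟨g, ⟨i, hi, rfl⟩, rfl⟩
    exact ⟨i, hi, rfl⟩
  · rintro ⟨i, hi, rfl⟩
    exact ⟨tgen i, ⟨i, hi, rfl⟩, rfl⟩

theorem iota_injective : Function.Injective (iota keys_ok) := by
  have := TwistedF4Two.isSimpleGroup_D
  rcases (iota keys_ok).normal_ker.eq_bot_or_eq_top with h | h
  · exact (MonoidHom.ker_eq_bot_iff _).1 h
  · exfalso
    have h1 : ((iota keys_ok (gD 3)) ⟨0, by norm_num⟩ : ℕ) = 0 := by
      rw [MonoidHom.mem_ker.1 (h ▸ Subgroup.mem_top (gD 3))]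
      rfl
    rw [coded_iota keys_ok codes_ok 3 (by norm_num)] at h1
    exact absurd h1 (by decide +kernel)

theorem titsHom_injective : Function.Injective titsHom := by
  have := isSimple_Tgrp
  rcases titsHom.normal_ker.eq_bot_or_eq_top with h | h
  · exact (MonoidHom.ker_eq_bot_iff _).1 h
  · exfalso
    have h1 : titsHom (tgen 0) = 1 := MonoidHom.mem_ker.1 (h ▸ Subgroup.mem_top _)
    have h2 : dgen 0 = 1 := iota_injective ((titsHom_tgen (by norm_num)).symm.trans h1 |>.trans
      (map_one _).symm)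
    have h3 : StemCert.appW 11 codes (titsWords.getD 0 []) 0 = 0 := by
      rw [← StemCert.appW_spec (coded_iota keys_ok codes_ok) _ (by decide) ⟨0, by norm_num⟩,
        show StemCert.evalW gD (titsWords.getD 0 []) = 1 from h2, map_one]
      rfl
    exact absurd h3 (by decide +kernel)

theorem titsHom_range : titsHom.range = (iota keys_ok).range := by
  have hle : titsHom.range ≤ (iota keys_ok).range := by
    rw [MonoidHom.range_eq_map, ← tgen_closure, MonoidHom.map_closure, Subgroup.closure_le]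
    rintro x ⟨g, ⟨i, hi, rfl⟩, rfl⟩
    exact ⟨dgen i, (titsHom_tgen hi).symm⟩
  refine Subgroup.eq_of_le_of_card_ge hle (le_of_eq ?_)
  rw [← Nat.card_congr (MonoidHom.ofInjective iota_injective).toEquiv,
    ← Nat.card_congr (MonoidHom.ofInjective titsHom_injective).toEquiv, TwistedF4Two.card_D,
    card_Tgrp.1]

/-- The subgroup is the Tits group. -/
noncomputable def titsEquiv : ↥Tgrp ≃* D :=
  ((MonoidHom.ofInjective titsHom_injective).trans (MulEquiv.subgroupCongr titsHom_range)).trans
    (MonoidHom.ofInjective iota_injective).symm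

theorem tits_multiplier : Cfsg.HasCyclicSchurMultiplier ↥Tgrp 1 := by
  refine ProjExt.Stem.hasCyclicSchurMultiplier_one fun Γ _ _ σ hσ => ?_
  have hk : (titsEquiv.toMonoidHom.comp σ).ker = σ.ker := by
    ext x; simp [MonoidHom.mem_ker]
  have hσ' : Cfsg.IsStemExtension (titsEquiv.toMonoidHom.comp σ) :=
    ⟨titsEquiv.surjective.comp hσ.1, hk ▸ hσ.2.1, hk ▸ hσ.2.2⟩
  rw [← hk]
  exact ProjExt.Stem.ker_eq_bot_of_trivial TwistedF4Two.MultCert.multiplier Γ _ hσ'

theorem commutator_eq_top_of_simple {G : Type*} [Group G] [Finite G] [IsSimpleGroup G]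
    (h : ¬ (Nat.card G).Prime) : commutator G = ⊤ := by
  rcases (show (commutator G).Normal from inferInstance).eq_bot_or_eq_top with e | e
  · exfalso
    rw [commutator_eq_bot_iff_center_eq_top] at e
    letI : CommGroup G :=
      { (inferInstance : Group G) with
        mul_comm := fun a b => Subgroup.mem_center_iff.1 (e ▸ Subgroup.mem_top b) a }
    exact h IsSimpleGroup.prime_card
  · exact e

theorem Tgrp_perfect : commutator ↥Tgrp = ⊤ := by
  have := isSimple_Tgrp
  exact commutator_eq_top_of_simple (by rw [card_Tgrp.1]; norm_num)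

end Cfsg.Agent.Rud.Mult
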