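import Cfsg.Agent.Rud.Mult.Model
import Cfsg.Agent.Rud.Mult.Meet
import Cfsg.Agent.Rud.Mult.TitsIso
import Cfsg.Agent.CocycleCert.Cyclic

/-!
The multiplier of the group of the lines is cyclic of order 2.
-/

set_option autoImplicit false

namespace Cfsg.Agent.Rud.Mult

open Cfsg.Agent.CocycleCert (evalS evalS_cons map_evalS)
open Cfsg.Agent.Leech.Model (fixPts)

attribute [local irreducible] phi gen

/-- The exponent sum of a letter. -/
def expSum (x : ℕ) (w : List (ℕ × Bool)) : ℤ :=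
  w.foldr (fun a r => (if a.1 = x then (if a.2 then 1 else -1) else 0) + r) 0

theorem tprodSum_eq {A : Type*} [CommGroup A] (c : ℕ → A) : ∀ w : List (ℕ × Bool), (∀ a ∈ w, a.1 < 4) →
    CocycleCert.tprod c w = c 0 ^ expSum 0 w * c 1 ^ expSum 1 w * c 2 ^ expSum 2 w * c 3 ^ expSum 3 w
  | [], _ => by simp [CocycleCert.tprod, evalS, expSum]
  | (x, s) :: w, h => by
    have hx : x < 4 := h (x, s) (by simp)
    have ih := tprodSum_eq c w fun a ha => h a (by simp [ha])
    simp only [CocycleCert.tprod] at ih ⊢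
    rw [evalS_cons, ih]
    interval_cases x <;> cases s <;>
      simp only [expSum, List.foldr_cons, cond_false, cond_true, if_true, if_false, Bool.false_eq_true,
        OfNat.ofNat_ne_zero, OfNat.zero_ne_ofNat, OfNat.ofNat_eq_ofNat, reduceIte, Nat.reduceEqDiff,
        zpow_add, zpow_one, zpow_neg_one, zpow_zero, one_mul] <;>
      ac_rfl

theorem evalS_shift {Γ : Type*} [Group Γ] (K : Subgroup Γ) [IsMulCommutative K] (hK : K ≤ Subgroup.center Γ)
    (l : ℕ → Γ) (c : ℕ → K) : ∀ w : List (ℕ × Bool),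
    evalS (fun x => l x * (c x : Γ)) w = evalS l w * ((evalS c w : K) : Γ)
  | [] => by simp [evalS]
  | (x, s) :: w => by
    have hc : ∀ (y : K) (g : Γ), (y : Γ) * g = g * y := fun y g => (Subgroup.mem_center_iff.mp (hK y.2) g).symm
    rw [evalS_cons, evalS_cons, evalS_cons, evalS_shift K hK l c w]
    cases s
    · simp only [cond_false, mul_inv_rev, Subgroup.coe_mul, Subgroup.coe_inv]
      have h1 := hc (c x)⁻¹ ((l x)⁻¹ * evalS l w)
      rw [Subgroup.coe_inv] at h1
      calc (c x : Γ)⁻¹ * (l x)⁻¹ * (evalS l w * ((evalS c w : K) : Γ))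
          = (c x : Γ)⁻¹ * ((l x)⁻¹ * evalS l w) * ((evalS c w : K) : Γ) := by group
        _ = _ := by rw [h1]; group
    · simp only [cond_true, Subgroup.coe_mul]
      calc l x * (c x : Γ) * (evalS l w * ((evalS c w : K) : Γ))
          = l x * ((c x : Γ) * evalS l w) * ((evalS c w : K) : Γ) := by group
        _ = _ := by rw [hc]; group

theorem shift_identities {A : Type*} [CommGroup A] (a b c d : A) :
    a * ((a⁻¹ * d * b⁻¹) ^ (1 : ℤ) * (c⁻¹) ^ (0 : ℤ) * (d⁻¹ * b) ^ (1 : ℤ) * (b⁻¹ * c) ^ (0 : ℤ)) = 1 ∧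
    b * ((a⁻¹ * d * b⁻¹) ^ (0 : ℤ) * (c⁻¹) ^ (1 : ℤ) * (d⁻¹ * b) ^ (0 : ℤ) * (b⁻¹ * c) ^ (1 : ℤ)) = 1 ∧
    c * ((a⁻¹ * d * b⁻¹) ^ (0 : ℤ) * (c⁻¹) ^ (1 : ℤ) * (d⁻¹ * b) ^ (0 : ℤ) * (b⁻¹ * c) ^ (0 : ℤ)) = 1 ∧
    d * ((a⁻¹ * d * b⁻¹) ^ (0 : ℤ) * (c⁻¹) ^ (1 : ℤ) * (d⁻¹ * b) ^ (1 : ℤ) * (b⁻¹ * c) ^ (1 : ℤ)) = 1 := by
  refine ⟨?_, ?_, ?_, ?_⟩ <;> simp only [zpow_one, zpow_zero, one_mul, mul_one] <;>
    apply (Additive.ofMul (α := A)).injective <;> simp only [ofMul_mul, ofMul_inv, ofMul_one] <;> abel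

theorem zero_sums : [72, 73, 74, 75].map
    (fun k => (List.range 4).map fun x => expSum x (cert.rels.getD k [])) =
    [[1, 0, 1, 0], [0, 1, 0, 1], [0, 1, 0, 0], [0, 1, 1, 1]] := by decide +kernel

theorem span_zero : span.zero = [72, 73, 74, 75] := rfl

theorem outer_ne : veeHom outer ≠ 1 := fun h => by
  simp only [veeHom, MonoidHom.mk'_apply, vee_outer] at h
  exact absurd h (by decide)

theorem S0_le_Hgrp : S0 ≤ Hgrp := inf_le_left

attribute [local irreducible] S0 Hgrp Tgrp veeHom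

/-- The colour of an element of the stabiliser. -/
noncomputable def veeS : ↥(S0.subgroupOf Hgrp) →* Multiplicative (ZMod 2) :=
  veeHom.comp (Subgroup.subgroupOfEquivOfLe S0_le_Hgrp).toMonoidHom

theorem veeS_ne : ∃ h : ↥(S0.subgroupOf Hgrp), veeS h ≠ 1 := by
  refine ⟨(Subgroup.subgroupOfEquivOfLe S0_le_Hgrp).symm outer, fun h => ?_⟩
  have h1 : veeHom outer = 1 :=
    ((congrArg veeHom (MulEquiv.apply_symm_apply (Subgroup.subgroupOfEquivOfLe S0_le_Hgrp) outer)).symm).trans h
  exact outer_ne h1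

theorem core_facts : Tgrp.subgroupOf Hgrp ≤ S0.subgroupOf Hgrp ∧
    ((Tgrp.subgroupOf Hgrp).subgroupOf (S0.subgroupOf Hgrp)).index = 2 ∧
    commutator ↥(Tgrp.subgroupOf Hgrp) = ⊤ ∧
    Cfsg.HasCyclicSchurMultiplier ↥(Tgrp.subgroupOf Hgrp) 1 := by
  have hle : Tgrp.subgroupOf Hgrp ≤ S0.subgroupOf Hgrp := fun x hx => Tgrp_le_S0 hx
  let e := Subgroup.subgroupOfEquivOfLe Tgrp_le_Hgrp
  refine ⟨hle, ?_, ?_, ?_⟩
  · have h := ((Tgrp.subgroupOf Hgrp).subgroupOf (S0.subgroupOf Hgrp)).card_mul_index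
    rw [Nat.card_congr (Subgroup.subgroupOfEquivOfLe hle).toEquiv, Nat.card_congr e.toEquiv,
      Nat.card_congr (Subgroup.subgroupOfEquivOfLe S0_le_Hgrp).toEquiv, card_S0,
      card_Tgrp.1] at h
    generalize ((Tgrp.subgroupOf Hgrp).subgroupOf (S0.subgroupOf Hgrp)).index = i at h ⊢
    omega
  · rw [← Subgroup.map_top_of_surjective e.symm.toMonoidHom e.symm.surjective, ← Tgrp_perfect,
      commutator_def, commutator_def, Subgroup.map_commutator,
      Subgroup.map_top_of_surjective _ e.symm.surjective]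
  · have hfin : Finite ↥(Tgrp.subgroupOf Hgrp) := inferInstance
    refine ProjExt.Stem.hasCyclicSchurMultiplier_one fun Γ _ _ σ hσ => ?_
    have hk : (e.toMonoidHom.comp σ).ker = σ.ker := by
      ext x; simp [MonoidHom.mem_ker]
    have hσ' : Cfsg.IsStemExtension (e.toMonoidHom.comp σ) :=
      ⟨e.surjective.comp hσ.1, hk ▸ hσ.2.1, hk ▸ hσ.2.2⟩
    rw [← hk]
    exact ProjExt.Stem.ker_eq_bot_of_trivial tits_multiplier Γ _ hσ'

/-- The kernel of a stem extension has order at most 2. -/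
theorem ker_card_dvd {Γ : Type} [Group Γ] [Finite Γ] (σ : Γ →* ↥Hgrp) (hσ : Cfsg.IsStemExtension σ) :
    Nat.card σ.ker ∣ 2 := by
  classical
  obtain ⟨hsurj, hker, hcomm⟩ := id hσ
  have hcomm' : IsMulCommutative σ.ker :=
    ⟨⟨fun a b => Subtype.ext (Subgroup.mem_center_iff.mp (hker b.2) a)⟩⟩
  letI : CommGroup σ.ker :=
    { (inferInstance : Group σ.ker) with mul_comm := fun a b => hcomm'.is_comm.comm a b }
  choose l hl using fun x => hsurj (gen x)
  have hlt : ∀ k ∈ span.zero, cert.rels.getD k [] ∈ cert.rels := fun k hk => by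
    have := checked.zero_lt k hk
    rw [CocycleCert.nr_eq] at this
    rw [List.getD_eq_getElem _ _ this]
    exact List.getElem_mem this
  have hkerw : ∀ k ∈ span.zero, evalS l (cert.rels.getD k []) ∈ σ.ker := fun k hk => by
    rw [MonoidHom.mem_ker, map_evalS, show (fun x => σ (l x)) = gen from funext hl]
    exact evalS_rel _ (hlt k hk)
  let z : ℕ → σ.ker := fun k =>
    if h : k ∈ span.zero then ⟨evalS l (cert.rels.getD k []), hkerw k h⟩ else 1
  let c : ℕ → σ.ker := fun x =>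
    [(z 72)⁻¹ * z 75 * (z 73)⁻¹, (z 74)⁻¹, (z 75)⁻¹ * z 73, (z 73)⁻¹ * z 74].getD x 1
  let l0 : ℕ → Γ := fun x => l x * (c x : Γ)
  have hl0 : ∀ x, σ (l0 x) = gen x := fun x => by
    simp only [l0, map_mul, hl, MonoidHom.mem_ker.mp (c x).2, mul_one]
  have hzero : ∀ k ∈ span.zero, evalS l0 (cert.rels.getD k []) = 1 := by
    intro k hk
    rw [evalS_shift σ.ker hker l c]
    have hz : evalS l (cert.rels.getD k []) = (z k : Γ) := by simp only [z, dif_pos hk]
    have hw : ∀ a ∈ cert.rels.getD k [], a.1 < 4 := checked.relsLt _ (hlt k hk)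
    have hc := tprodSum_eq c _ hw
    simp only [CocycleCert.tprod] at hc
    rw [hz, ← Subgroup.coe_mul, hc]
    have hm := zero_sums
    simp only [List.range, List.range.loop, List.map_cons, List.map_nil, List.cons.injEq, and_true] at hm
    rw [span_zero] at hk
    simp only [List.mem_cons, List.not_mem_nil, or_false] at hk
    obtain ⟨⟨a1, a2, a3, a4⟩, ⟨b1, b2, b3, b4⟩, ⟨c1, c2, c3, c4⟩, ⟨d1, d2, d3, d4⟩⟩ := hm
    refine (congrArg Subtype.val ?_).trans (Subgroup.coe_one _)
    obtain ⟨i1, i2, i3, i4⟩ := shift_identities (z 72) (z 73) (z 74) (z 75)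
    rcases hk with rfl | rfl | rfl | rfl
    · rw [a1, a2, a3, a4]; exact i1
    · rw [b1, b2, b3, b4]; exact i2
    · rw [c1, c2, c3, c4]; exact i3
    · rw [d1, d2, d3, d4]; exact i4
  have hgen : Subgroup.closure {e | ∃ x < cert.K, l0 x = e} = ⊤ := by
    set H := Subgroup.closure {e | ∃ x < cert.K, l0 x = e}
    have hmap : H.map σ = ⊤ := by
      rw [MonoidHom.map_closure, ← gen_closure]
      congr 1
      ext y
      constructor
      · rintro ⟨_, ⟨x, hx, rfl⟩, rfl⟩; exact ⟨x, hx, (hl0 x).symm⟩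
      · rintro ⟨x, hx, rfl⟩; exact ⟨_, ⟨x, hx, rfl⟩, hl0 x⟩
    have hdec : ∀ a : Γ, ∃ h ∈ H, h⁻¹ * a ∈ σ.ker := fun a => by
      obtain ⟨h, hh, e⟩ := Subgroup.mem_map.mp (hmap ▸ Subgroup.mem_top (σ a))
      exact ⟨h, hh, by rw [MonoidHom.mem_ker, map_mul, map_inv, e, inv_mul_cancel]⟩
    have hc : commutator Γ ≤ H := by
      rw [commutator_def, Subgroup.commutator_le]
      intro a _ b _
      obtain ⟨a', ha, ka⟩ := hdec a
      obtain ⟨b', hb, kb⟩ := hdec b
      rw [show a = a' * (a'⁻¹ * a) by group, show b = b' * (b'⁻¹ * b) by group,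
        StemCert.commutator_mul_central _ _ (hker ka) (hker kb), commutatorElement_def]
      exact mul_mem (mul_mem (mul_mem ha hb) (inv_mem ha)) (inv_mem hb)
    rw [eq_top_iff]
    intro a _
    obtain ⟨h, hh, k⟩ := hdec a
    rw [show a = h * (h⁻¹ * a) by group]
    exact mul_mem hh (hc (hcomm k))
  obtain ⟨u, hu, hall⟩ := CocycleCert.cyclic_image checked σ hker phi gen
    (fun x hx c => phi_gen_inv hx c) (fun x hx c => phi_gen hx c) evalS_rel (S0.subgroupOf Hgrp)
    (fun y => phi_zero y) l0 hl0 hzero hgen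
    (A := Abelianization ↥((S0.subgroupOf Hgrp).comap σ)) Abelianization.of
  have hu4 : u ^ 4 = 1 := hu
  have hkS : σ.ker ≤ (S0.subgroupOf Hgrp).comap σ := fun x hx => by
    rw [Subgroup.mem_comap, MonoidHom.mem_ker.mp hx]; exact one_mem _
  let ρ : σ.ker →* Abelianization ↥((S0.subgroupOf Hgrp).comap σ) :=
    Abelianization.of.comp (Subgroup.inclusion hkS)
  obtain ⟨hle, hidx, hperf, hmult⟩ := core_facts
  have hρ : Function.Injective ρ := (injective_iff_map_eq_one ρ).mpr fun x hx => Subtype.ext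
    (ker_meet hle hidx hperf hmult σ hσ x (hkS x.2) x.2 (by
      have h1 : Abelianization.of (⟨(x : Γ), hkS x.2⟩ : (S0.subgroupOf Hgrp).comap σ) = 1 := hx
      rwa [← MonoidHom.mem_ker, Abelianization.ker_of] at h1))
  let χ0 : ↥((S0.subgroupOf Hgrp).comap σ) →* Multiplicative (ZMod 2) :=
    veeS.comp ((σ.comp (Subgroup.subtype _)).codRestrict _ fun p => p.2)
  let χ := Abelianization.lift χ0
  have hχker : ∀ x, χ (ρ x) = 1 := fun x => by
    show Abelianization.lift χ0 (Abelianization.of _) = 1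
    rw [Abelianization.lift_apply_of]
    show veeS _ = 1
    refine (congrArg veeS (Subtype.ext ?_)).trans (map_one veeS)
    exact MonoidHom.mem_ker.mp x.2
  obtain ⟨h, hh⟩ := veeS_ne
  obtain ⟨e, he⟩ := hsurj h.1
  have heS : e ∈ (S0.subgroupOf Hgrp).comap σ := by rw [Subgroup.mem_comap, he]; exact h.2
  have hχu : χ u ≠ 1 := fun hu1 => hh (by
    obtain ⟨n, hn⟩ := Subgroup.mem_zpowers_iff.mp (hall ⟨e, heS⟩)
    have h1 : χ (Abelianization.of ⟨e, heS⟩) = 1 := by rw [← hn, map_zpow, hu1, one_zpow]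
    rw [Abelianization.lift_apply_of] at h1
    rw [← h1]
    exact congrArg veeS (Subtype.ext he.symm))
  have hrange : ρ.range ≤ Subgroup.zpowers (u ^ 2) := by
    rintro _ ⟨x, rfl⟩
    obtain ⟨n, hn⟩ := Subgroup.mem_zpowers_iff.mp
      (hall (Subgroup.inclusion hkS x))
    have hn' : u ^ n = ρ x := hn
    have h1 : χ u ^ n = 1 := by rw [← map_zpow, hn', hχker]
    obtain ⟨m, rfl | rfl⟩ := Int.even_or_odd' n
    · refine ⟨m, ?_⟩
      rw [← hn', zpow_mul]
      norm_cast
    · exfalso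
      have hsq : ∀ y : Multiplicative (ZMod 2), y ^ (2 : ℤ) = 1 := by decide
      rw [zpow_add, zpow_mul, hsq, one_zpow, one_mul, zpow_one] at h1
      exact hχu h1
  rw [Nat.card_congr (MonoidHom.ofInjective hρ).toEquiv]
  refine dvd_trans (Subgroup.card_dvd_of_le hrange) ?_
  rw [Nat.card_zpowers]
  exact orderOf_dvd_of_pow_eq_one (by rw [← pow_mul]; exact hu4)

/-- A word in the two maps on the vectors. -/
theorem evM_eq : ∀ (w : List ℕ), (w.all fun a => Nat.blt a 2) = true → ∃ g ∈ Kgrp,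
    ∀ i : Fin 16240, (g i : ℕ) = evM w i
  | [], _ => ⟨1, Subgroup.one_mem _, fun _ => rfl⟩
  | a :: w, h => by
    rw [List.all_cons, Bool.and_eq_true] at h
    obtain ⟨g, hg, hgi⟩ := evM_eq w h.2
    have ha : a < 2 := by simpa using h.1
    obtain rfl | rfl : a = 0 ∨ a = 1 := by omega
    · refine ⟨gperm genOK0 * g, mul_mem (gperm_mem _) hg, fun i => ?_⟩
      rw [Equiv.Perm.mul_apply, gperm_apply, hgi]
      rfl
    · refine ⟨gperm genOK1 * g, mul_mem (gperm_mem _) hg, fun i => ?_⟩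
      rw [Equiv.Perm.mul_apply, gperm_apply, hgi]
      rfl

/-- A lift of a generator to the vectors. -/
noncomputable def lift (x : ℕ) : ↥Kgrp := ⟨_, (evM_eq _ (gwords_ok x)).choose_spec.1⟩

theorem lift_apply (x : ℕ) (i : Fin 16240) :
    ((lift x : Equiv.Perm (Fin 16240)) i : ℕ) = evM (genWords.getD x []) i :=
  (evM_eq _ (gwords_ok x)).choose_spec.2 i

theorem prod_lift_apply : ∀ (w : List ℕ) (i : Fin 16240),
    (((w.map lift).prod : ↥Kgrp) : Equiv.Perm (Fin 16240)) i = (evL w i : ℕ)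
  | [], i => rfl
  | a :: w, i => by
    rw [List.map_cons, List.prod_cons, Subgroup.coe_mul, Equiv.Perm.mul_apply, lift_apply,
      prod_lift_apply w i]
    rfl

/-- The central involution. -/
noncomputable def negI : ↥Kgrp := ⟨iperm, iperm_mem⟩ ^ 2

theorem negI_ne : negI ≠ 1 := fun h => by
  have h1 := congrArg (fun g : ↥Kgrp => ((g : Equiv.Perm (Fin 16240)) 0 : ℕ)) h
  simp only [negI, pow_two, Subgroup.coe_mul, Equiv.Perm.mul_apply, iperm_apply, Subgroup.coe_one,
    Equiv.Perm.one_apply] at h1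
  exact absurd h1 (by decide +kernel)

theorem eq_of_base {p q : ↥Kgrp}
    (h : ∀ i : Fin 16240, (i : ℕ) ∈ baseData →
      (p : Equiv.Perm (Fin 16240)) i = (q : Equiv.Perm (Fin 16240)) i) : p = q := by
  refine inv_mul_eq_one.1 (Subtype.ext (fix_base (p⁻¹ * q).2 fun i hi => ?_))
  rw [Subgroup.coe_mul, Subgroup.coe_inv, Equiv.Perm.mul_apply, ← h i hi, Equiv.Perm.inv_eq_iff_eq]

theorem negI_mem : negI ∈ commutator ↥Kgrp := by
  have hb := cover_ok
  simp only [coverB, List.all_eq_true, Bool.and_eq_true, Nat.beq_eq, List.mem_range] at hb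
  have hlift : ∀ x < 4, lift x * lift x = 1 := fun x hx => eq_of_base fun i hi => Fin.ext (by
    have h := prod_lift_apply [x, x] i
    simp only [List.map_cons, List.map_nil, List.prod_cons, List.prod_nil, mul_one] at h
    rw [h]
    exact (hb _ hi).2 x hx)
  obtain ⟨W, hWdef⟩ : ∃ W, (coverWord.map lift).prod = W := ⟨_, rfl⟩
  have hW : (coverWord.map lift).prod = negI := by
    rw [hWdef]
    refine eq_of_base fun i hi => Fin.ext ?_
    rw [← hWdef, prod_lift_apply, (hb _ hi).1]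
    simp [negI, pow_two, iperm_apply]
  rw [← Abelianization.ker_of, MonoidHom.mem_ker, ← hW, map_list_prod, List.map_map, coverWord,
    List.map_flatten, List.map_replicate, List.prod_flatten, List.map_replicate, List.prod_replicate]
  have hsq : ∀ x < 4, Abelianization.of (lift x) * Abelianization.of (lift x) = 1 := fun x hx => by
    rw [← map_mul, hlift x hx, map_one]
  have hblock : ∀ L : List ℕ, (∀ x ∈ L, x < 4) →
      (L.map (Abelianization.of ∘ lift)).prod ^ 2 = 1 := by
    intro L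
    induction L with
    | nil => intro _; simp
    | cons a L ih =>
      intro h
      rw [List.map_cons, List.prod_cons, mul_pow, ih fun x hx => h x (List.mem_cons_of_mem _ hx), mul_one,
        pow_two]
      exact hsq a (h a List.mem_cons_self)
  rw [show 26 = 2 * 13 from rfl, pow_mul, hblock _ (by decide), one_pow]

theorem card_ker_lineHom : Nat.card ↥lineHom.ker = 4 ∧ Nat.card ↥lineHom.range = 145926144000 := by
  have h1 := Subgroup.card_le_of_le Hgrp_le_range
  have h2 : Nat.card ↥lineHom.ker * Nat.card ↥lineHom.range = Nat.card ↥Kgrp := by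
    rw [← Subgroup.index_ker, Subgroup.card_mul_index]
  have h4 := card_Kgrp_le
  rw [card_Hgrp] at h1
  have h3 := Nat.mul_le_mul four_le_ker h1
  have h5 := four_le_ker
  generalize Nat.card ↥lineHom.range = y, Nat.card ↥lineHom.ker = z,
    Nat.card ↥Kgrp = w at h1 h2 h3 h4 h5 ⊢
  have hz : z = 4 := by
    by_contra hne
    have := Nat.mul_le_mul (show 5 ≤ z by omega) h1
    omega
  subst hz
  exact ⟨rfl, by omega⟩

theorem range_lineHom : lineHom.range = Hgrp :=
  (Subgroup.eq_of_le_of_card_ge Hgrp_le_range (by rw [card_Hgrp, card_ker_lineHom.2])).symm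

/-- The action on lines with values in the group of the lines. -/
noncomputable def toH : ↥Kgrp →* ↥Hgrp :=
  lineHom.codRestrict Hgrp fun p => range_lineHom ▸ ⟨p, rfl⟩

theorem toH_surjective : Function.Surjective toH := fun h => by
  obtain ⟨p, hp⟩ : (h : Equiv.Perm (Fin 4060)) ∈ lineHom.range := range_lineHom.symm ▸ h.2
  exact ⟨p, Subtype.ext hp⟩

theorem toH_ker_central : toH.ker ≤ Subgroup.center ↥Kgrp := by
  let i : ↥Kgrp := ⟨iperm, iperm_mem⟩
  have hi : i ∈ Subgroup.center ↥Kgrp :=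
    Subgroup.mem_center_iff.2 fun p => Subtype.ext (Equiv.ext fun a => p.2.2 a)
  have hle : Subgroup.zpowers i ≤ lineHom.ker := by
    rw [Subgroup.zpowers_le]
    exact iperm_lineHom
  have hcard : 4 ≤ Nat.card ↥(Subgroup.zpowers i) := by
    rw [Nat.card_zpowers]
    by_contra hlt
    have hpos := orderOf_pos i
    have h1 := congrArg (fun g : ↥Kgrp => ((g : Equiv.Perm (Fin 16240)) 0 : ℕ)) (pow_orderOf_eq_one i)
    interval_cases h : orderOf i
    all_goals
      simp only [pow_succ, pow_zero, one_mul, Subgroup.coe_mul, Subgroup.coe_one, Equiv.Perm.mul_apply,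
        Equiv.Perm.one_apply, i, iperm_apply] at h1
      exact absurd h1 (by decide +kernel)
  have he := Subgroup.eq_of_le_of_card_ge hle (by rw [card_ker_lineHom.1]; exact hcard)
  intro p hp
  have hp' : p ∈ lineHom.ker := congrArg Subtype.val (MonoidHom.mem_ker.1 hp)
  rw [← he, Subgroup.mem_zpowers_iff] at hp'
  obtain ⟨n, rfl⟩ := hp'
  exact Subgroup.zpow_mem _ hi n

theorem commutator_Hgrp : commutator ↥Hgrp = ⊤ := by
  have := isSimple_Hgrp
  exact commutator_eq_top_of_simple (by rw [card_Hgrp]; norm_num)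

/-- The double cover. -/
noncomputable def cover : ↥(commutator ↥Kgrp) →* ↥Hgrp := toH.comp (Subgroup.subtype _)

theorem cover_stem : Cfsg.IsStemExtension cover := by
  have hmap : (commutator ↥Kgrp).map toH = ⊤ := by
    rw [commutator_def, Subgroup.map_commutator, Subgroup.map_top_of_surjective _ toH_surjective,
      ← commutator_def, commutator_Hgrp]
  refine ⟨fun h => ?_, fun p hp => ?_, fun p _ => ?_⟩
  · obtain ⟨p, hp, e⟩ := Subgroup.mem_map.1 (hmap ▸ Subgroup.mem_top h)
    exact ⟨⟨p, hp⟩, e⟩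
  · exact Subgroup.mem_center_iff.2 fun q =>
      Subtype.ext (Subgroup.mem_center_iff.1 (toH_ker_central hp) q)
  · have hdec : ∀ a : ↥Kgrp, ∃ b ∈ commutator ↥Kgrp, b⁻¹ * a ∈ toH.ker := fun a => by
      obtain ⟨b, hb, e⟩ := Subgroup.mem_map.1 (hmap ▸ Subgroup.mem_top (toH a))
      exact ⟨b, hb, by rw [MonoidHom.mem_ker, map_mul, map_inv, e, inv_mul_cancel]⟩
    have hp : (p : ↥Kgrp) ∈ (commutator ↥(commutator ↥Kgrp)).map (Subgroup.subtype _) := by
      refine (show commutator ↥Kgrp ≤ _ from ?_) p.2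
      rw [commutator_def ↥(commutator ↥Kgrp), Subgroup.map_commutator, ← MonoidHom.range_eq_map,
        Subgroup.range_subtype]
      conv_lhs => rw [commutator_def]
      rw [Subgroup.commutator_le]
      intro a _ b _
      obtain ⟨a', ha, ka⟩ := hdec a
      obtain ⟨b', hb, kb⟩ := hdec b
      rw [show a = a' * (a'⁻¹ * a) by group, show b = b' * (b'⁻¹ * b) by group,
        StemCert.commutator_mul_central _ _ (toH_ker_central ka) (toH_ker_central kb)]
      exact Subgroup.commutator_mem_commutator ha hb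
    obtain ⟨q, hq, e⟩ := hp
    exact (Subgroup.subtype_injective _ e) ▸ hq

theorem card_cover_ker : Nat.card cover.ker = 2 := by
  have hd := ker_card_dvd cover cover_stem
  rcases (Nat.dvd_prime Nat.prime_two).1 hd with h | h
  · exfalso
    have hm : (⟨negI, negI_mem⟩ : ↥(commutator ↥Kgrp)) ∈ cover.ker := by
      rw [MonoidHom.mem_ker]
      show toH negI = 1
      rw [negI, map_pow, show toH ⟨iperm, iperm_mem⟩ = 1 from Subtype.ext iperm_lineHom, one_pow]
    rw [Subgroup.card_eq_one] at h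
    rw [h, Subgroup.mem_bot] at hm
    exact negI_ne (congrArg Subtype.val hm)
  · exact h

/-- The multiplier is cyclic of order two. -/
theorem multiplier : Cfsg.HasCyclicSchurMultiplier ↥Hgrp 2 := by
  have := Fact.mk Nat.prime_two
  have := isCyclic_of_prime_card card_cover_ker
  refine ProjExt.Stem.hasCyclicSchurMultiplier_of cover cover_stem
    (mulEquivOfCyclicCardEq (by rw [card_cover_ker, Nat.card_congr Multiplicative.toAdd, Nat.card_zmod]))
    fun Γ _ _ σ hσ => ?_
  have h2 := ker_card_dvd σ hσ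
  have hcyc : IsCyclic σ.ker := by
    rcases (Nat.dvd_prime Nat.prime_two).mp h2 with h | h
    · have := (Nat.card_eq_one_iff_unique.mp h).1
      exact isCyclic_of_subsingleton
    · exact isCyclic_of_prime_card h
  obtain ⟨z, hzgen⟩ := IsCyclic.exists_generator (α := σ.ker)
  refine ⟨z, z.2, fun a ha => ?_, ?_⟩
  · obtain ⟨n, hn⟩ := Subgroup.mem_zpowers_iff.mp (hzgen ⟨a, ha⟩)
    exact ⟨n, congrArg Subtype.val hn⟩
  · have : z ^ 2 = 1 := orderOf_dvd_iff_pow_eq_one.mp ((orderOf_dvd_natCard z).trans h2)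
    exact congrArg Subtype.val this

end Cfsg.Agent.Rud.Mult
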