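import Cfsg.Agent.Rud.Mult.Checked
import Cfsg.Agent.Rud.Simple

/-!
Four involutions generating the group of the lines, and its action on the renumbered lines.
-/

set_option autoImplicit false

namespace Cfsg.Agent.Rud.Mult

open Cfsg.Agent.CosetCert (force_eq)
open Cfsg.Agent.Leech.Model (fixPts noRep_range noRep_spec)
open Cfsg.Agent.CocycleCert (evalS evalS_cons)

theorem gen_at {c x : ℕ} (hc : c < 4060) (hx : x < 4) : tab c x < 4060 ∧ tab (tab c x) x = c ∧
    evG (genWords.getD x []) (old c) = old (tab c x) := by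
  have h := gen_ok (4 * c + x) (by omega)
  simp only [genB, force_eq, Bool.and_eq_true, Nat.blt_eq, Nat.beq_eq] at h
  rw [show (4 * c + x) / 4 = c by omega, show (4 * c + x) % 4 = x by omega] at h
  exact ⟨h.1.1, h.1.2, h.2⟩

theorem back_at {c : ℕ} (hc : c < 4060) : old c < 4060 ∧
    old (evT (backWords.getD 0 []) c) = limg 0 (old c) ∧
    old (evT (backWords.getD 1 []) c) = limg 1 (old c) := by
  have h := back_ok c hc
  simp only [backB, Bool.and_eq_true, Nat.blt_eq, Nat.beq_eq] at h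
  exact ⟨h.1.1, h.1.2, h.2⟩

/-- The renumbering of the lines. -/
noncomputable def oldE : Fin 4060 ≃ Fin 4060 :=
  Equiv.ofBijective (fun c => ⟨old c, (back_at c.2).1⟩)
    (Finite.injective_iff_bijective.1 fun a b e =>
      Fin.ext (noRep_range old_nodup a.2 b.2 (congrArg Fin.val e)))

theorem oldE_apply (c : Fin 4060) : (oldE c : ℕ) = old c := rfl

theorem gwords_ok (x : ℕ) : ((genWords.getD x []).all fun a => Nat.blt a 2) = true := by
  rcases lt_or_ge x genWords.length with h | h
  · rw [List.getD_eq_getElem _ _ h]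
    exact List.all_eq_true.1 gen_words.1 _ (List.getElem_mem _)
  · simp [List.getD_eq_getElem?_getD, List.getElem?_eq_none h]

/-- A word in the two maps agrees with the checks. -/
theorem evG_eq : ∀ (w : List ℕ), (w.all fun a => Nat.blt a 2) = true → ∃ g ∈ Hgrp,
    ∀ i : Fin 4060, (g i : ℕ) = evG w i
  | [], _ => ⟨1, Subgroup.one_mem _, fun _ => rfl⟩
  | a :: w, h => by
    rw [List.all_cons, Bool.and_eq_true] at h
    obtain ⟨g, hg, hgi⟩ := evG_eq w h.2
    have ha : a < 2 := by simpa using h.1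
    obtain rfl | rfl : a = 0 ∨ a = 1 := by omega
    · refine ⟨hgen genOK0 * g, mul_mem (Subgroup.subset_closure (by simp)) hg, fun i => ?_⟩
      rw [Equiv.Perm.mul_apply, hgen_apply, hgi]
      rfl
    · refine ⟨hgen genOK1 * g, mul_mem (Subgroup.subset_closure (by simp)) hg, fun i => ?_⟩
      rw [Equiv.Perm.mul_apply, hgen_apply, hgi]
      rfl

/-- The generators. -/
noncomputable def gen (x : ℕ) : ↥Hgrp :=
  ⟨_, (evG_eq _ (gwords_ok x)).choose_spec.1⟩

theorem gen_apply (x : ℕ) (i : Fin 4060) :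
    ((gen x : Equiv.Perm (Fin 4060)) i : ℕ) = evG (genWords.getD x []) i :=
  (evG_eq _ (gwords_ok x)).choose_spec.2 i

/-- The action on the renumbered lines. -/
noncomputable def phi : ↥Hgrp →* Equiv.Perm (Fin 4060) :=
  (oldE.symm.permCongrHom).toMonoidHom.comp Hgrp.subtype

theorem oldE_phi (g : ↥Hgrp) (c : Fin 4060) :
    oldE (phi g c) = (g : Equiv.Perm (Fin 4060)) (oldE c) := by
  simp [phi, Equiv.permCongrHom, Equiv.permCongr_apply]

theorem phi_injective : Function.Injective phi := fun g h e => Subtype.ext (Equiv.ext fun i => by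
  rw [← oldE.apply_symm_apply i, ← oldE_phi, ← oldE_phi, e])

theorem phi_gen {x : ℕ} (hx : x < 4) (c : Fin 4060) : (phi (gen x) c : ℕ) = tab c x := by
  obtain ⟨h1, -, h2⟩ := gen_at c.2 hx
  have e : oldE (phi (gen x) c) = oldE ⟨tab c x, h1⟩ := by
    rw [oldE_phi]
    exact Fin.ext ((gen_apply x _).trans h2)
  exact congrArg Fin.val (oldE.injective e)

theorem phi_gen_inv {x : ℕ} (hx : x < 4) (c : Fin 4060) : ((phi (gen x))⁻¹ c : ℕ) = tab c x := by
  obtain ⟨h1, h2, -⟩ := gen_at c.2 hx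
  have e : phi (gen x) ⟨tab c x, h1⟩ = c := Fin.ext ((phi_gen hx _).trans h2)
  rw [Equiv.Perm.inv_eq_iff_eq.2 e.symm]

theorem gen_sq {x : ℕ} (hx : x < 4) : gen x * gen x = 1 := phi_injective (Equiv.ext fun c => Fin.ext (by
  rw [map_mul, Equiv.Perm.mul_apply, phi_gen hx, phi_gen hx, map_one]
  exact (gen_at c.2 hx).2.1))

/-- An element of the group with the signed word. -/
theorem phi_evalS : ∀ (w : List (ℕ × Bool)), (∀ a ∈ w, a.1 < 4) → ∀ c : Fin 4060,
    (phi (evalS gen w) c : ℕ) = evS w c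
  | [], _, c => by simp [evalS, evS]
  | (x, s) :: w, h, c => by
    have hx : x < 4 := h (x, s) (by simp)
    rw [evalS_cons, map_mul, Equiv.Perm.mul_apply]
    have hs : cond s (gen x) (gen x)⁻¹ = gen x := by
      cases s
      · exact inv_eq_of_mul_eq_one_right (gen_sq hx)
      · rfl
    rw [hs, phi_gen hx, phi_evalS w (fun a ha => h a (by simp [ha]))]
    rfl

theorem evalS_rel : ∀ w ∈ cert.rels, evalS gen w = 1 := by
  intro w hw
  have hlt : ∀ a ∈ w, a.1 < 4 := checked.relsLt w hw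
  have hb := List.all_eq_true.1 rels_ok w hw
  simp only [relB, List.all_eq_true, Nat.beq_eq] at hb
  refine Subtype.ext (faithful (evalS gen w).2 fun i hi => ?_)
  obtain ⟨c, hc, hci⟩ : ∃ c ∈ baseNum, old c = i := List.mem_map.1 (old_base ▸ hi)
  have hc4 : c < 4060 := by
    have : ∀ c ∈ baseNum, c < 4060 := by decide
    exact this c hc
  have hi' : oldE ⟨c, hc4⟩ = i := Fin.ext hci
  have h := oldE_phi (evalS gen w) ⟨c, hc4⟩
  rw [hi', show phi (evalS gen w) ⟨c, hc4⟩ = ⟨c, hc4⟩ from
    Fin.ext ((phi_evalS w hlt _).trans (hb c hc)), hi'] at h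
  exact h.symm

theorem gen_closure : Subgroup.closure {g | ∃ x < 4, gen x = g} = ⊤ := by
  set L := Subgroup.closure {g | ∃ x < 4, gen x = g}
  have hprod : ∀ w : List ℕ, (∀ a ∈ w, a < 4) → ∃ g ∈ L, ∀ c : Fin 4060, (phi g c : ℕ) = evT w c := by
    intro w
    induction w with
    | nil => exact fun _ => ⟨1, one_mem _, fun c => by simp [evT]⟩
    | cons a w ih =>
      intro h
      obtain ⟨g, hg, hgc⟩ := ih fun b hb => h b (by simp [hb])
      refine ⟨gen a * g, mul_mem (Subgroup.subset_closure ⟨a, h a (by simp), rfl⟩) hg, fun c => ?_⟩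
      rw [map_mul, Equiv.Perm.mul_apply, phi_gen (h a (by simp)), hgc]
      rfl
  have hj : ∀ (j : ℕ) (G : GenOK j), j < 2 → ∀ hm : hgen G ∈ Hgrp, (⟨hgen G, hm⟩ : ↥Hgrp) ∈ L := by
    intro j G hj hm
    have hw : ∀ a ∈ backWords.getD j [], a < 4 := by
      intro a ha
      have hlen : j < backWords.length := lt_of_lt_of_le hj (by decide)
      rw [List.getD_eq_getElem _ _ hlen] at ha
      simpa using List.all_eq_true.1 (List.all_eq_true.1 gen_words.2.1 _ (List.getElem_mem hlen)) a ha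
    obtain ⟨g, hg, hgc⟩ := hprod _ hw
    rw [show (⟨hgen G, hm⟩ : ↥Hgrp) = g from Subtype.ext (Equiv.ext fun i => Fin.ext ?_)]
    · exact hg
    · obtain ⟨c, rfl⟩ := oldE.surjective i
      rw [← oldE_phi g, oldE_apply (phi g c), hgc, hgen_apply, oldE_apply]
      obtain ⟨-, h0, h1⟩ := back_at c.2
      interval_cases j
      · exact h0.symm
      · exact h1.symm
  rw [eq_top_iff]
  rintro ⟨g, hg⟩ -
  have hg' : g ∈ L.map Hgrp.subtype := by
    refine (show Hgrp ≤ L.map Hgrp.subtype from ?_) hg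
    refine (Subgroup.closure_le _).2 ?_
    rintro x (rfl | rfl)
    · exact ⟨_, hj 0 genOK0 (by norm_num) (Subgroup.subset_closure (by simp)), rfl⟩
    · exact ⟨_, hj 1 genOK1 (by norm_num) (Subgroup.subset_closure (by simp)), rfl⟩
  obtain ⟨y, hy, e⟩ := hg'
  rwa [show y = ⟨g, hg⟩ from Subtype.ext e] at hy

theorem phi_zero (g : ↥Hgrp) : phi g 0 = 0 ↔ g ∈ S0.subgroupOf Hgrp := by
  have h0 : oldE 0 = 0 := Fin.ext (by
    have : old 0 = 0 := by
      have h := old_base
      simp only [baseNum, List.map_cons] at h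
      exact (List.cons.inj h).1
    exact this)
  rw [← oldE.injective.eq_iff, oldE_phi, h0, Subgroup.mem_subgroupOf]
  constructor
  · intro h
    refine ⟨g.2, fun i hi => ?_⟩
    rw [show i = 0 from Fin.ext (by simpa using hi)]
    exact h
  · intro h
    exact h.2 0 (by simp)

end Cfsg.Agent.Rud.Mult
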