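import Cfsg.Agent.Rud.Mult.Main
import Cfsg.Agent.RudLat.Main

/-!
The multiplier of the Rudvalis group, transported from the group of the lines.
-/

set_option autoImplicit false

namespace Cfsg.Agent.Rud.Mult

universe u v

theorem schur_of_mulEquiv {G : Type u} {H : Type u} [Group G] [Group H] {A : Type v} [CommGroup A]
    (e : G ≃* H) (h : Cfsg.HasSchurMultiplier H A) : Cfsg.HasSchurMultiplier G A := by
  have hker : ∀ {K L : Type u} [Group K] [Group L] (e : K ≃* L) {Γ : Type u} [Group Γ] (σ : Γ →* K),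
      (e.toMonoidHom.comp σ).ker = σ.ker := by
    intro K L _ _ e Γ _ σ
    ext x
    simp [MonoidHom.mem_ker]
  have hstem : ∀ {K L : Type u} [Group K] [Group L] (e : K ≃* L) {Γ : Type u} [Group Γ] (σ : Γ →* K),
      Cfsg.IsStemExtension σ → Cfsg.IsStemExtension (e.toMonoidHom.comp σ) := fun e _ _ σ hσ =>
    ⟨e.surjective.comp hσ.1, (hker e σ).symm ▸ hσ.2.1, (hker e σ).symm ▸ hσ.2.2⟩
  obtain ⟨⟨Γ₀, i1, i2, σ₀, h0, ⟨f⟩⟩, hU⟩ := h
  refine ⟨⟨Γ₀, i1, i2, e.symm.toMonoidHom.comp σ₀, hstem e.symm σ₀ h0,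
    ⟨(MulEquiv.subgroupCongr (hker e.symm σ₀)).trans f⟩⟩, fun Γ _ _ σ hσ => ?_⟩
  obtain ⟨π, hπ⟩ := hU Γ (e.toMonoidHom.comp σ) (hstem e σ hσ)
  refine ⟨(MulEquiv.subgroupCongr (hker e σ)).toMonoidHom.comp π, ?_⟩
  exact (MulEquiv.subgroupCongr (hker e σ)).surjective.comp hπ

theorem multiplier_ru : Cfsg.HasCyclicSchurMultiplier Cfsg.Spor.Ru 2 :=
  schur_of_mulEquiv RudLat.ruEquiv multiplier

end Cfsg.Agent.Rud.Mult
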